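import Groth.Agent.Depth.FlatLocal
import Groth.Agent.CAlgBasics.Depth
import Groth.Agent.CAlgBasics.FlatAux
import Groth.Agent.QGorLib.FlatDepth

/-!
# Depth along flat local homomorphisms

`depth_B (N ⊗_A M) = depth_A M + depth_B (N ⧸ m_A N)` for finite `M`, and finite `A`-flat `N`.
-/

set_option autoImplicit false
set_option linter.style.haveILetI false
set_option backward.isDefEq.respectTransparency false
set_option maxHeartbeats 1000000

universe u

open IsLocalRing RingTheory.Sequence Pointwise TensorProduct

namespace Groth.Agent.FlatDepth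

section Quot

variable {R : Type u} [CommRing R] [IsLocalRing R] [IsNoetherianRing R] {M : Type u} [AddCommGroup M]
  [Module R M] [Module.Finite R M] [Nontrivial M]

omit [IsNoetherianRing R] in
theorem nontrivial_quotSMulTop {r : R} (hr : r ∈ maximalIdeal R) : Nontrivial (QuotSMulTop r M) := by
  refine Submodule.Quotient.nontrivial_iff.mpr fun h => CAlgBasics.maximalIdeal_smul_top_ne_top (R := R) (M := M) ?_
  rw [← Submodule.ideal_span_singleton_smul] at h
  exact top_le_iff.mp (h.ge.trans (Submodule.smul_mono_left ((Ideal.span_singleton_le_iff_mem _).2 hr)))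

/-- A regular element lowers the depth by exactly one. -/
theorem depth_quotSMulTop {r : R} (hr : r ∈ maximalIdeal R) (hreg : IsSMulRegular M r) :
    LocCoh.depth R (QuotSMulTop r M) + 1 = LocCoh.depth R M := by
  have hI := CAlgBasics.maximalIdeal_smul_top_ne_top (R := R) (M := M)
  have hI' := Depth.smul_top_quotSMulTop_ne_top hr hI
  obtain ⟨rs, hw, hm, y, hy, hy'⟩ := Depth.exists_isMaxSeq (I := maximalIdeal R) (M := QuotSMulTop r M) hI'
  let e := Submodule.quotOfListConsSMulTopEquivQuotSMulTopInner M r rs
  obtain ⟨x, hx⟩ := Submodule.Quotient.mk_surjective _ (e.symm (Submodule.Quotient.mk y))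
  have hmax : Depth.IsMaxSeq (maximalIdeal R) M (r :: rs) := by
    refine ⟨(isWeaklyRegular_cons_iff M r rs).2 ⟨hreg, hw⟩,
      fun s hs => (List.mem_cons.1 hs).elim (fun h => h ▸ hr) (hm s), x, fun hx' => hy ?_, fun a ha => ?_⟩
    · rw [← Submodule.Quotient.mk_eq_zero, hx] at hx'
      exact (Submodule.Quotient.mk_eq_zero _).1 (e.symm.map_eq_zero_iff.1 hx')
    · rw [← Submodule.Quotient.mk_eq_zero, Submodule.Quotient.mk_smul, hx, ← map_smul,
        ← Submodule.Quotient.mk_smul, (Submodule.Quotient.mk_eq_zero _).2 (hy' a ha), map_zero]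
  rw [LocCoh.depth, LocCoh.depth, Depth.idealDepth_eq_length hI hmax,
    Depth.idealDepth_eq_length hI' ⟨hw, hm, y, hy, hy'⟩, List.length_cons, Nat.cast_add, Nat.cast_one]

theorem exists_depth_eq : ∃ d : ℕ, LocCoh.depth R M = d := by
  obtain ⟨rs, h⟩ := Depth.exists_isMaxSeq (I := maximalIdeal R) (CAlgBasics.maximalIdeal_smul_top_ne_top (R := R) (M := M))
  exact ⟨rs.length, Depth.idealDepth_eq_length (CAlgBasics.maximalIdeal_smul_top_ne_top (R := R) (M := M)) h⟩

theorem depth_eq_zero_iff :
    LocCoh.depth R M = 0 ↔ ∃ x : M, x ≠ 0 ∧ ∀ r ∈ maximalIdeal R, r • x = 0 :=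
  Depth.idealDepth_eq_zero_iff (CAlgBasics.maximalIdeal_smul_top_ne_top (R := R) (M := M))

theorem exists_regular_of_depth {d : ℕ} (h : LocCoh.depth R M = (d + 1 : ℕ)) :
    ∃ r ∈ maximalIdeal R, IsSMulRegular M r := by
  obtain ⟨rs, hl, hm, hw⟩ := (Depth.le_idealDepth_iff (CAlgBasics.maximalIdeal_smul_top_ne_top (R := R) (M := M)) (d + 1)).1
    (le_of_eq h.symm)
  match rs, hl with
  | r :: rs, _ => exact ⟨r, hm r List.mem_cons_self, ((isWeaklyRegular_cons_iff M r rs).1 hw).1⟩

omit [IsNoetherianRing R] [Module.Finite R M] [Nontrivial M] in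
theorem depth_congr {N : Type u} [AddCommGroup N] [Module R N] (e : M ≃ₗ[R] N) :
    LocCoh.depth R M = LocCoh.depth R N := Depth.depth_congr e

end Quot

/-- Depth of a module over a quotient ring. -/
theorem depth_of_surjective {S R : Type u} [CommRing S] [CommRing R] [IsLocalRing S] [IsLocalRing R]
    [IsNoetherianRing S] [IsNoetherianRing R] [Algebra S R] (hsurj : Function.Surjective (algebraMap S R))
    (M : Type u) [AddCommGroup M] [Module R M] [Module S M] [IsScalarTower S R M] [Module.Finite R M] :
    LocCoh.depth R M = LocCoh.depth S M := by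
  haveI : Module.Finite S R := Module.Finite.of_surjective (Algebra.linearMap S R) hsurj
  haveI : Module.Finite S M := Module.Finite.trans R M
  rcases subsingleton_or_nontrivial M with hM | hM
  · rw [CAlgBasics.depth_eq_top, CAlgBasics.depth_eq_top]
  have hm : (maximalIdeal S).map (algebraMap S R) = maximalIdeal R :=
    IsLocalRing.eq_maximalIdeal (Ideal.IsMaximal.map_of_surjective_of_ker_le hsurj
      (le_maximalIdeal (RingHom.ker_ne_top _)))
  obtain ⟨rs, hw, hmem, x, hx, hx'⟩ :=
    Depth.exists_isMaxSeq (I := maximalIdeal R) (CAlgBasics.maximalIdeal_smul_top_ne_top (R := R) (M := M))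
  have hlift : ∀ ts : List R, (∀ t ∈ ts, t ∈ maximalIdeal R) →
      ∃ ss : List S, ss.map (algebraMap S R) = ts ∧ ∀ s ∈ ss, s ∈ maximalIdeal S := by
    intro ts hts
    induction ts with
    | nil => exact ⟨[], rfl, by simp⟩
    | cons t ts ih =>
      obtain ⟨ss, hss, hmem⟩ := ih fun x hx => hts x (List.mem_cons_of_mem _ hx)
      obtain ⟨s, hs, hst⟩ :=
        (Ideal.mem_map_iff_of_surjective _ hsurj).mp (hm.symm ▸ hts t List.mem_cons_self)
      exact ⟨s :: ss, by rw [List.map_cons, hss, hst],
        fun x hx => (List.mem_cons.mp hx).elim (fun h => h ▸ hs) (hmem x)⟩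
  obtain ⟨ss, rfl, hsm⟩ := hlift rs hmem
  have hideal : ((Ideal.ofList (ss.map (algebraMap S R))) • ⊤ : Submodule R M).restrictScalars S =
      Ideal.ofList ss • (⊤ : Submodule S M) := by
    rw [← Ideal.map_ofList, Submodule.restrictScalars_map_smul_eq, Submodule.restrictScalars_top]
  have hmax : Depth.IsMaxSeq (maximalIdeal S) M ss := by
    refine ⟨(isWeaklyRegular_map_algebraMap_iff R M ss).1 hw, hsm, x, ?_, fun s hs => ?_⟩
    · rw [← hideal]; exact hx
    · rw [← hideal, ← algebraMap_smul R s x]
      exact hx' _ (hm ▸ Ideal.mem_map_of_mem _ hs)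
  rw [LocCoh.depth, LocCoh.depth,
    Depth.idealDepth_eq_length (CAlgBasics.maximalIdeal_smul_top_ne_top (R := R) (M := M)) ⟨hw, hmem, x, hx, hx'⟩,
    Depth.idealDepth_eq_length (CAlgBasics.maximalIdeal_smul_top_ne_top (R := S) (M := M)) hmax, List.length_map]

section Flat

variable {A B : Type u} [CommRing A] [CommRing B] [IsLocalRing A] [IsLocalRing B] [IsNoetherianRing A]
  [IsNoetherianRing B] [Algebra A B] [IsLocalHom (algebraMap A B)]

variable (A B) in
/-- The closed fibre of a `B`-module. -/
abbrev Fib (N : Type u) [AddCommGroup N] [Module B N] : Type u :=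
  N ⧸ ((maximalIdeal A).map (algebraMap A B) • ⊤ : Submodule B N)

variable {N : Type u} [AddCommGroup N] [Module A N] [Module B N] [IsScalarTower A B N] [Module.Finite B N]
  [Nontrivial N] [Module.Flat A N]

omit [IsNoetherianRing A] [IsNoetherianRing B] [Module.Flat A N] [Module A N] [IsScalarTower A B N] in
theorem nontrivial_fib : Nontrivial (Fib A B N) :=
  Submodule.Quotient.nontrivial_iff.mpr fun h => CAlgBasics.maximalIdeal_smul_top_ne_top (R := B) (M := N)
    (top_le_iff.mp (h.ge.trans (Submodule.smul_mono_left (IsLocalRing.map_maximalIdeal_le (algebraMap A B)))))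

include B in
omit [IsNoetherianRing A] [IsNoetherianRing B] in
theorem faithfullyFlat : Module.FaithfullyFlat A N := by
  refine Module.FaithfullyFlat.mk fun {m} hm htop => ?_
  obtain rfl := IsLocalRing.eq_maximalIdeal hm
  have := nontrivial_fib (A := A) (B := B) (N := N)
  refine (Submodule.Quotient.nontrivial_iff.mp this) (top_le_iff.mp fun x _ => ?_)
  have hx : x ∈ maximalIdeal A • (⊤ : Submodule A N) := by rw [htop]; trivial
  refine Submodule.smul_induction_on hx (fun a ha y _ => ?_) fun a b ha hb => add_mem ha hb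
  rw [← algebraMap_smul B a y]
  exact Submodule.smul_mem_smul (Ideal.mem_map_of_mem _ ha) trivial

omit [IsLocalRing A] [IsLocalRing B] [IsNoetherianRing A] [IsNoetherianRing B] [IsLocalHom (algebraMap A B)] [Nontrivial N]
  [Module.Flat A N] in
theorem finite_tensor (M : Type u) [AddCommGroup M] [Module A M] [Module.Finite A M] :
    Module.Finite B (N ⊗[A] M) :=
  Module.Finite.equiv (TensorProduct.AlgebraTensorModule.cancelBaseChange A B B N M)

/-- Additivity of depth along a flat local homomorphism. -/
theorem depth_tensor (M : Type u) [AddCommGroup M] [Module A M] [Module.Finite A M] [Nontrivial M] :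
    LocCoh.depth B (N ⊗[A] M) = LocCoh.depth A M + LocCoh.depth B (Fib A B N) := by
  haveI := nontrivial_fib (A := A) (B := B) (N := N)
  obtain ⟨t, ht⟩ := exists_depth_eq (R := B) (M := Fib A B N)
  obtain ⟨s, hs⟩ := exists_depth_eq (R := A) (M := M)
  rw [ht, hs]
  induction t generalizing N with
  | zero =>
    induction s generalizing M with
    | zero =>
      haveI := faithfullyFlat (A := A) (B := B) (N := N)
      haveI : Nontrivial (N ⊗[A] M) := inferInstance
      haveI : Module.Finite B (N ⊗[A] M) := finite_tensor M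
      rw [Nat.cast_zero, zero_add, depth_eq_zero_iff]
      obtain ⟨z, hz, hzm⟩ := depth_eq_zero_iff.1 hs
      obtain ⟨w, hw, hwm⟩ := depth_eq_zero_iff.1 ht
      obtain ⟨n, rfl⟩ := Submodule.Quotient.mk_surjective _ w
      refine ⟨n ⊗ₜ z, fun h0 => hw ?_, fun r hr => ?_⟩
      · -- the residue line `A ⧸ m → M` stays injective after tensoring with the flat module `N`
        let ι : (A ⧸ maximalIdeal A) →ₗ[A] M := (maximalIdeal A).liftQ (LinearMap.toSpanSingleton A M z)
          fun a ha => LinearMap.mem_ker.2 (hzm a ha)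
        have hι : Function.Injective ι := by
          refine (injective_iff_map_eq_zero ι).2 fun q hq => ?_
          obtain ⟨a, rfl⟩ := Submodule.Quotient.mk_surjective _ q
          rw [Submodule.Quotient.mk_eq_zero]
          by_contra ha
          change a • z = 0 at hq
          exact hz ((IsUnit.smul_eq_zero (not_not.1 fun hu => ha hu)).1 hq)
        have h1 : (n : N) ⊗ₜ[A] (Ideal.Quotient.mk (maximalIdeal A) 1) = 0 := by
          apply Module.Flat.lTensor_preserves_injective_linearMap ι hι
          rw [LinearMap.lTensor_tmul, map_zero]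
          show n ⊗ₜ[A] ((1 : A) • z) = 0
          rwa [one_smul]
        have h2 := congrArg (TensorProduct.tensorQuotEquivQuotSMul N (maximalIdeal A)) h1
        rw [map_zero, TensorProduct.tensorQuotEquivQuotSMul_tmul_mk, one_smul, Submodule.Quotient.mk_eq_zero] at h2
        rw [Submodule.Quotient.mk_eq_zero]
        refine Submodule.smul_induction_on h2 (fun a ha y _ => ?_) fun a b ha hb => add_mem ha hb
        rw [← algebraMap_smul B a y]
        exact Submodule.smul_mem_smul (Ideal.mem_map_of_mem _ ha) trivial
      · have h1 : r • n ∈ ((maximalIdeal A).map (algebraMap A B) • ⊤ : Submodule B N) := by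
          rw [← Submodule.Quotient.mk_eq_zero]
          exact hwm r hr
        rw [TensorProduct.smul_tmul']
        refine Submodule.smul_induction_on h1 (fun c hc y _ => ?_) fun a b ha hb => by rw [TensorProduct.add_tmul, ha, hb, add_zero]
        induction hc using Submodule.span_induction generalizing y with
        | mem c hc =>
          obtain ⟨a, ha, rfl⟩ := hc
          rw [algebraMap_smul, TensorProduct.smul_tmul, hzm a ha, TensorProduct.tmul_zero]
        | zero => rw [zero_smul, TensorProduct.zero_tmul]
        | add c d _ _ hc hd => rw [add_smul, TensorProduct.add_tmul, hc y trivial, hd y trivial, add_zero]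
        | smul c d _ hd => rw [smul_eq_mul, mul_comm, mul_smul]; exact hd _ trivial
    | succ s ih =>
      obtain ⟨x, hx, hreg⟩ := exists_regular_of_depth hs
      haveI := faithfullyFlat (A := A) (B := B) (N := N)
      haveI := nontrivial_quotSMulTop (M := M) hx
      have h1 : LocCoh.depth A (QuotSMulTop x M) = (s : ℕ∞) := by
        have := depth_quotSMulTop hx hreg
        rw [hs, Nat.cast_add, Nat.cast_one] at this
        exact (ENat.add_left_injective_of_ne_top ENat.one_ne_top) this
      have h2 := ih (QuotSMulTop x M) h1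
      haveI : Module.Finite B (N ⊗[A] M) := finite_tensor M
      haveI : Nontrivial (N ⊗[A] M) := inferInstance
      have hreg' : IsSMulRegular (N ⊗[A] M) (algebraMap A B x) := fun u v huv => by
        simp only [algebraMap_smul] at huv
        refine Module.Flat.lTensor_preserves_injective_linearMap (LinearMap.lsmul A M x) hreg ?_
        rw [show (LinearMap.lsmul A M x).lTensor N = LinearMap.lsmul A (N ⊗[A] M) x from TensorProduct.ext' fun p q => by simp]
        exact huv
      let π : N ⊗[A] M →ₗ[B] N ⊗[A] QuotSMulTop x M :=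
        TensorProduct.AlgebraTensorModule.map LinearMap.id (x • ⊤ : Submodule A M).mkQ
      have hπs : Function.Surjective π :=
        LinearMap.lTensor_surjective N (Submodule.mkQ_surjective _)
      have hπk : LinearMap.ker π = algebraMap A B x • (⊤ : Submodule B (N ⊗[A] M)) := by
        ext u
        have hex : Function.Exact (LinearMap.lsmul A M x) (x • ⊤ : Submodule A M).mkQ := by
          rw [LinearMap.exact_iff, Submodule.ker_mkQ, ← Submodule.map_top]
          rfl
        have hex' := lTensor_exact N hex (Submodule.mkQ_surjective _)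
        rw [LinearMap.mem_ker, show π u = ((x • ⊤ : Submodule A M).mkQ.lTensor N) u from rfl, hex' u,
          Submodule.mem_smul_pointwise_iff_exists]
        constructor
        · rintro ⟨v, rfl⟩
          refine ⟨v, trivial, ?_⟩
          rw [algebraMap_smul, show (LinearMap.lsmul A M x).lTensor N = LinearMap.lsmul A (N ⊗[A] M) x from
            TensorProduct.ext' fun p q => by simp]
          rfl
        · rintro ⟨v, -, rfl⟩
          refine ⟨v, ?_⟩
          rw [algebraMap_smul, show (LinearMap.lsmul A M x).lTensor N = LinearMap.lsmul A (N ⊗[A] M) x from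
            TensorProduct.ext' fun p q => by simp]
          rfl
      let e : QuotSMulTop (algebraMap A B x) (N ⊗[A] M) ≃ₗ[B] N ⊗[A] QuotSMulTop x M :=
        (Submodule.quotEquivOfEq _ _ hπk.symm).trans (π.quotKerEquivOfSurjective hπs)
      have hxB : algebraMap A B x ∈ maximalIdeal B := IsLocalRing.map_maximalIdeal_le _ (Ideal.mem_map_of_mem _ hx)
      rw [← depth_quotSMulTop hxB hreg', depth_congr e, h2]
      push_cast
      ring
  | succ t ih =>
    obtain ⟨y, hy, hreg⟩ := exists_regular_of_depth ht
    obtain ⟨hN, hflat⟩ := QGorLib.regular_and_flat_of_fibre (R := A) (M := N) y fun z hz => by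
      rw [← Submodule.Quotient.mk_eq_zero] at hz ⊢
      exact hreg.right_eq_zero_of_smul hz
    haveI := hflat
    haveI := nontrivial_quotSMulTop (M := N) hy
    -- the fibre of `N ⧸ y N`
    let I := (maximalIdeal A).map (algebraMap A B)
    let ρ : Fib A B N →ₗ[B] Fib A B (QuotSMulTop y N) :=
      Submodule.mapQ _ _ (y • ⊤ : Submodule B N).mkQ (by
        rw [← Submodule.map_le_iff_le_comap, Submodule.map_smul'']
        exact Submodule.smul_mono le_rfl le_top)
    have hρs : Function.Surjective ρ := fun q => by
      obtain ⟨q, rfl⟩ := Submodule.Quotient.mk_surjective _ q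
      obtain ⟨q, rfl⟩ := Submodule.Quotient.mk_surjective _ q
      exact ⟨Submodule.Quotient.mk q, rfl⟩
    have hρk : LinearMap.ker ρ = y • (⊤ : Submodule B (Fib A B N)) := by
      ext q
      obtain ⟨q, rfl⟩ := Submodule.Quotient.mk_surjective _ q
      rw [LinearMap.mem_ker, Submodule.mapQ_apply, Submodule.Quotient.mk_eq_zero, Submodule.mem_smul_pointwise_iff_exists,
        ← Submodule.mem_comap, Submodule.comap_smul_top_of_surjective _ _ (Submodule.mkQ_surjective _), Submodule.ker_mkQ,
        Submodule.mem_sup]
      constructor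
      · rintro ⟨a, ha, b, hb, rfl⟩
        obtain ⟨c, -, rfl⟩ := (Submodule.mem_smul_pointwise_iff_exists _ _ _).1 hb
        refine ⟨Submodule.Quotient.mk c, trivial, ?_⟩
        rw [← Submodule.Quotient.mk_smul, Submodule.Quotient.mk_add, (Submodule.Quotient.mk_eq_zero _).2 ha, zero_add]
      · rintro ⟨c, -, hc⟩
        obtain ⟨c, rfl⟩ := Submodule.Quotient.mk_surjective _ c
        rw [← Submodule.Quotient.mk_smul, Submodule.Quotient.eq] at hc
        exact ⟨q - y • c, by rw [← neg_sub]; exact neg_mem hc, y • c, Submodule.smul_mem_pointwise_smul _ _ _ trivial,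
          sub_add_cancel _ _⟩
    let eF : QuotSMulTop y (Fib A B N) ≃ₗ[B] Fib A B (QuotSMulTop y N) :=
      (Submodule.quotEquivOfEq _ _ hρk.symm).trans (ρ.quotKerEquivOfSurjective hρs)
    haveI := nontrivial_fib (A := A) (B := B) (N := QuotSMulTop y N)
    have h1 : LocCoh.depth B (Fib A B (QuotSMulTop y N)) = (t : ℕ∞) := by
      have := depth_quotSMulTop hy hreg
      rw [ht, Nat.cast_add, Nat.cast_one, depth_congr eF] at this
      exact (ENat.add_left_injective_of_ne_top ENat.one_ne_top) this
    have h2 := ih inferInstance h1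
    haveI := faithfullyFlat (A := A) (B := B) (N := N)
    haveI : Nontrivial (N ⊗[A] M) := inferInstance
    haveI : Module.Finite B (N ⊗[A] M) := finite_tensor M
    let μ : N →ₗ[A] N := ((y • LinearMap.id : N →ₗ[B] N)).restrictScalars A
    have hμ : ∀ u : N ⊗[A] M, μ.rTensor M u = y • u := fun u => by
      induction u using TensorProduct.induction_on with
      | zero => simp
      | tmul p q => simp [μ, TensorProduct.smul_tmul']
      | add p q hp hq => rw [map_add, hp, hq, smul_add]
    let q : N →ₗ[A] QuotSMulTop y N := (y • ⊤ : Submodule B N).mkQ.restrictScalars A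
    have hqs : Function.Surjective q := Submodule.mkQ_surjective _
    have hexq : Function.Exact μ q := fun n => by
      show (Submodule.Quotient.mk n : QuotSMulTop y N) = 0 ↔ _
      rw [Submodule.Quotient.mk_eq_zero, Submodule.mem_smul_pointwise_iff_exists]
      exact ⟨fun ⟨c, _, hc⟩ => ⟨c, hc⟩, fun ⟨c, hc⟩ => ⟨c, trivial, hc⟩⟩
    have hreg' : IsSMulRegular (N ⊗[A] M) y := fun u v huv => by
      have hinj := CAlgBasics.rTensor_injective_of_flat_quotient (f := μ) (g := q) hN hexq hqs M
      refine hinj ?_
      rw [hμ, hμ]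
      exact huv
    let qB : N →ₗ[B] QuotSMulTop y N := (y • ⊤ : Submodule B N).mkQ
    let π : N ⊗[A] M →ₗ[B] QuotSMulTop y N ⊗[A] M :=
      TensorProduct.AlgebraTensorModule.map qB (LinearMap.id : M →ₗ[A] M)
    have hπq : ∀ u, π u = (q.rTensor M) u := fun u => by
      induction u using TensorProduct.induction_on with
      | zero => simp
      | tmul a b => rfl
      | add a b ha hb => rw [map_add, map_add, ha, hb]
    have hπs : Function.Surjective π := fun z => by
      obtain ⟨u, hu⟩ := LinearMap.rTensor_surjective M hqs z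
      exact ⟨u, (hπq u).trans hu⟩
    have hπk : LinearMap.ker π = y • (⊤ : Submodule B (N ⊗[A] M)) := by
      ext u
      have hex' := rTensor_exact M hexq hqs
      rw [LinearMap.mem_ker, hπq u, hex' u, Submodule.mem_smul_pointwise_iff_exists]
      exact ⟨fun ⟨v, hv⟩ => ⟨v, trivial, by rw [← hv, hμ]⟩, fun ⟨v, _, hv⟩ => ⟨v, by rw [hμ, hv]⟩⟩
    let e : QuotSMulTop y (N ⊗[A] M) ≃ₗ[B] QuotSMulTop y N ⊗[A] M :=
      (Submodule.quotEquivOfEq _ _ hπk.symm).trans (π.quotKerEquivOfSurjective hπs)
    rw [← depth_quotSMulTop hy hreg', depth_congr e, h2]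
    push_cast
    ring

/-- Additivity of depth for rings. -/
theorem depth_ring [Module.Flat A B] [IsLocalRing (B ⧸ (maximalIdeal A).map (algebraMap A B))] :
    LocCoh.depth B B = LocCoh.depth A A +
      LocCoh.depth (B ⧸ (maximalIdeal A).map (algebraMap A B)) (B ⧸ (maximalIdeal A).map (algebraMap A B)) := by
  let I := (maximalIdeal A).map (algebraMap A B)
  have h := depth_tensor (A := A) (B := B) (N := B) A
  let e1 : B ⊗[A] A ≃ₗ[B] B := TensorProduct.AlgebraTensorModule.rid A B B
  let e2 : Fib A B B ≃ₗ[B] B ⧸ I := Submodule.quotEquivOfEq _ _ (by rw [smul_eq_mul, Ideal.mul_top])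
  rwa [depth_congr e1, depth_congr e2, ← depth_of_surjective (S := B) (R := B ⧸ I) Ideal.Quotient.mk_surjective (B ⧸ I)] at h

end Flat

end Groth.Agent.FlatDepth
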