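import Groth.Agent.FlatDepth.Basic
import Groth.Agent.CMCat.Polynomial
import Groth.Agent.RatliffLib.Equidim
import Groth.Agent.RatliffLib.Formal
import Groth.Prelude.Def_Found
import Groth.Prelude.Def_EGA4b
import Groth.Agent.S9437

/-!
# `(S_k)` and Cohen–Macaulayness along flat maps
-/

set_option autoImplicit false
set_option linter.style.haveILetI false
set_option backward.isDefEq.respectTransparency false
set_option maxHeartbeats 1000000

universe u

open IsLocalRing TensorProduct

namespace Groth.Agent.FlatDepth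

/-- `(S_k)` at the closed point of a local ring. -/
def SkLocal (k : ℕ) (R : Type u) [CommRing R] : Prop :=
  ∃ _ : IsLocalRing R, min (k : WithBot ℕ∞) (ringKrullDim R) ≤ ((LocCoh.depth R R : ℕ∞) : WithBot ℕ∞)

theorem depth_eq_of_ringEquiv {A B : Type u} [CommRing A] [CommRing B] [IsLocalRing A] [IsLocalRing B]
    [IsNoetherianRing A] (e : A ≃+* B) : LocCoh.depth B B = LocCoh.depth A A := by
  haveI : IsNoetherianRing B := isNoetherianRing_of_ringEquiv A e
  letI : Algebra A B := (e : A →+* B).toAlgebra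
  haveI : Module.Flat A B := Module.Flat.of_linearEquiv
    (AlgEquiv.ofRingEquiv (f := e) (fun _ => rfl) : A ≃ₐ[A] B).toLinearEquiv.symm
  exact Depth.depth_eq_of_map_maximalIdeal (R := A) (S := B) (IsLocalRing.map_ringEquiv_maximalIdeal e)

theorem skLocal_of_ringEquiv {k : ℕ} {A B : Type u} [CommRing A] [CommRing B] [IsNoetherianRing A] (e : A ≃+* B)
    (h : SkLocal k A) : SkLocal k B := by
  obtain ⟨hloc, h⟩ := h
  haveI : IsLocalRing B := e.isLocalRing
  exact ⟨inferInstance, by rwa [← ringKrullDim_eq_of_ringEquiv e, depth_eq_of_ringEquiv e]⟩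

theorem hasSk_iff (k : ℕ) (R : Type u) [CommRing R] :
    LocCoh.HasSk k R R ↔ ∀ (p : Ideal R) [p.IsPrime], SkLocal k (Localization.AtPrime p) := by
  constructor
  · intro h p _
    have := h p
    rw [Depth.supportDim_localizedSelf, Depth.depth_localizedSelf] at this
    exact ⟨inferInstance, this⟩
  · intro h p _
    obtain ⟨_, h⟩ := h p
    rw [Depth.supportDim_localizedSelf, Depth.depth_localizedSelf]
    exact h

theorem exists_invariants (R : Type u) [CommRing R] [IsLocalRing R] [IsNoetherianRing R] :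
    ∃ d e : ℕ, ringKrullDim R = d ∧ LocCoh.depth R R = e ∧ e ≤ d := by
  obtain ⟨d, hd⟩ := RegLocal.exists_nat_ringKrullDim R
  obtain ⟨e, he⟩ := exists_depth_eq (R := R) (M := R)
  refine ⟨d, e, hd, he, ?_⟩
  have h := QGorLib.depth_le_supportDim (R := R) R
  rw [Module.supportDim_self_eq_ringKrullDim, hd, he] at h
  exact_mod_cast h

section Local

variable (A B : Type u) [CommRing A] [CommRing B] [IsLocalRing A] [IsLocalRing B] [IsNoetherianRing A]
  [IsNoetherianRing B] [Algebra A B] [IsLocalHom (algebraMap A B)] [Module.Flat A B]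

theorem isLocalRing_fibre : IsLocalRing (B ⧸ (maximalIdeal A).map (algebraMap A B)) := by
  haveI : Nontrivial (B ⧸ (maximalIdeal A).map (algebraMap A B)) := Ideal.Quotient.nontrivial_iff.2 fun h =>
    (maximalIdeal.isMaximal B).ne_top (top_le_iff.1 (h.ge.trans (IsLocalRing.map_maximalIdeal_le _)))
  exact IsLocalRing.of_surjective' _ Ideal.Quotient.mk_surjective

theorem skLocal_ascend {k : ℕ} (hA : SkLocal k A) (hF : SkLocal k (B ⧸ (maximalIdeal A).map (algebraMap A B))) :
    SkLocal k B := by
  obtain ⟨_, hA⟩ := hA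
  obtain ⟨_, hF⟩ := hF
  obtain ⟨a, d, ha, hd, -⟩ := exists_invariants A
  obtain ⟨b, e, hb, he, -⟩ := exists_invariants (B ⧸ (maximalIdeal A).map (algebraMap A B))
  obtain ⟨c, f, hc, hf, -⟩ := exists_invariants B
  have h1 := RatliffLib.dim_flat_local (A := A) (A' := B)
  have h2 := depth_ring (A := A) (B := B)
  rw [ha, hb, hc] at h1
  rw [hd, he, hf] at h2
  rw [ha, hd] at hA
  rw [hb, he] at hF
  have e1 : c = a + b := by exact_mod_cast h1
  have e2 : f = d + e := by exact_mod_cast h2
  have hmin : ∀ x y : ℕ, min (x : WithBot ℕ∞) (y : WithBot ℕ∞) = ((min x y : ℕ) : WithBot ℕ∞) :=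
    fun x y => (Nat.mono_cast.map_min (a := x) (b := y)).symm
  rw [hmin] at hA hF
  have e3 : min k a ≤ d := by exact_mod_cast hA
  have e4 : min k b ≤ e := by exact_mod_cast hF
  refine ⟨inferInstance, ?_⟩
  rw [hc, hf]
  rw [hmin]
  exact_mod_cast (by omega : min k c ≤ f)

theorem cm_ascend_descend :
    LocCoh.IsCohenMacaulayLocalRing B ↔ LocCoh.IsCohenMacaulayLocalRing A ∧
      LocCoh.IsCohenMacaulayLocalRing (B ⧸ (maximalIdeal A).map (algebraMap A B)) := by
  haveI := isLocalRing_fibre A B
  obtain ⟨a, d, ha, hd, had⟩ := exists_invariants A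
  obtain ⟨b, e, hb, he, hbe⟩ := exists_invariants (B ⧸ (maximalIdeal A).map (algebraMap A B))
  obtain ⟨c, f, hc, hf, hcf⟩ := exists_invariants B
  have h1 := RatliffLib.dim_flat_local (A := A) (A' := B)
  have h2 := depth_ring (A := A) (B := B)
  rw [ha, hb, hc] at h1
  rw [hd, he, hf] at h2
  have e1 : c = a + b := by exact_mod_cast h1
  have e2 : f = d + e := by exact_mod_cast h2
  constructor
  · intro h
    have := h.supportDim_eq_depth
    rw [Module.supportDim_self_eq_ringKrullDim, hc, hf] at this
    have e3 : c = f := by exact_mod_cast this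
    refine ⟨{ supportDim_eq_depth := ?_ }, { supportDim_eq_depth := ?_ }⟩
    · rw [Module.supportDim_self_eq_ringKrullDim, ha, hd]
      exact_mod_cast (by omega : a = d)
    · rw [Module.supportDim_self_eq_ringKrullDim, hb, he]
      exact_mod_cast (by omega : b = e)
  · rintro ⟨hA, hF⟩
    have hA := hA.supportDim_eq_depth
    have hF := hF.supportDim_eq_depth
    rw [Module.supportDim_self_eq_ringKrullDim, ha, hd] at hA
    rw [Module.supportDim_self_eq_ringKrullDim, hb, he] at hF
    have e3 : a = d := by exact_mod_cast hA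
    have e4 : b = e := by exact_mod_cast hF
    exact { supportDim_eq_depth := by
              rw [Module.supportDim_self_eq_ringKrullDim, hc, hf]
              exact_mod_cast (by omega : c = f) }

end Local

/-- Lifting a local property from the base and the fibres to the total space of a flat map. -/
theorem forall_localization_of_fibres {P : ∀ (R : Type u) [CommRing R], Prop}
    (hP : ∀ (A B : Type u) [CommRing A] [CommRing B] [IsLocalRing A] [IsLocalRing B] [IsNoetherianRing A]
      [IsNoetherianRing B] [Algebra A B] [IsLocalHom (algebraMap A B)] [Module.Flat A B],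
      P A → P (B ⧸ (maximalIdeal A).map (algebraMap A B)) → P B)
    (hiso : ∀ (A B : Type u) [CommRing A] [CommRing B] [IsNoetherianRing A], (A ≃+* B) → P A → P B)
    (R S : Type u) [CommRing R] [CommRing S] [IsNoetherianRing R] [IsNoetherianRing S] [Algebra R S] [Module.Flat R S]
    (hR : ∀ (p : Ideal R) [p.IsPrime], P (Localization.AtPrime p))
    (hfib : ∀ (p : Ideal R) [p.IsPrime] (Q : Ideal (p.Fiber S)) [Q.IsPrime], P (Localization.AtPrime Q)) :
    ∀ (q : Ideal S) [q.IsPrime], P (Localization.AtPrime q) := by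
  intro q hq
  let p := q.comap (algebraMap R S)
  haveI : q.LiesOver p := ⟨rfl⟩
  let e := PrimeSpectrum.preimageEquivFiber R S ⟨p, inferInstance⟩
  let Q := e ⟨⟨q, hq⟩, rfl⟩
  have hQ : Q.asIdeal.comap (Algebra.TensorProduct.includeRight : S →ₐ[R] p.Fiber S) = q := by
    have := congrArg (fun x => x.1.asIdeal) (e.symm_apply_apply ⟨⟨q, hq⟩, rfl⟩)
    exact this
  have hF := hfib p Q.asIdeal
  set r := Q.asIdeal.comap (Algebra.TensorProduct.includeRight : S →ₐ[R] p.Fiber S) with hr
  haveI : r.IsPrime := Ideal.IsPrime.comap _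
  suffices P (Localization.AtPrime r) by
    exact (show ∀ (I : Ideal S) (_ : I.IsPrime), I = r → P (Localization.AtPrime I) from
      fun I _ e => by subst e; exact this) q hq hQ.symm
  haveI : r.LiesOver p := ⟨hQ ▸ rfl⟩
  letI : Algebra (Localization.AtPrime p) (Localization.AtPrime r) := Localization.AtPrime.algebraOfLiesOver p r
  haveI := Localization.isLocalHom_localRingHom p r (algebraMap R S) (Ideal.over_def r p)
  haveI : IsLocalHom (algebraMap (Localization.AtPrime p) (Localization.AtPrime r)) := this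
  haveI : IsNoetherianRing (Localization.AtPrime r) := IsLocalization.isNoetherianRing r.primeCompl _ inferInstance
  haveI : IsNoetherianRing (Localization.AtPrime p) := IsLocalization.isNoetherianRing p.primeCompl _ inferInstance
  have e2 := Ideal.Fiber.localizationAlgEquivQuotient p Q.asIdeal
  have hmap : p.map (algebraMap R (Localization.AtPrime r)) =
      (maximalIdeal (Localization.AtPrime p)).map (algebraMap (Localization.AtPrime p) (Localization.AtPrime r)) := by
    rw [← Localization.AtPrime.map_eq_maximalIdeal, Ideal.map_map, ← IsScalarTower.algebraMap_eq]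
  let e3 := e2.toRingEquiv.trans (Ideal.quotEquivOfEq hmap)
  haveI : IsNoetherianRing (Localization.AtPrime Q.asIdeal) := isNoetherianRing_of_ringEquiv _ e3.symm
  exact hP (Localization.AtPrime p) (Localization.AtPrime r) (hR p) (hiso _ _ e3 hF)

/-- `(S_k)` ascends along flat maps with `(S_k)` fibres. -/
theorem hasSk_ascend (k : ℕ) (R S : Type u) [CommRing R] [CommRing S] [IsNoetherianRing R] [IsNoetherianRing S]
    [Algebra R S] [Module.Flat R S] (hR : LocCoh.HasSk k R R)
    (hfib : ∀ (p : Ideal R) [p.IsPrime], LocCoh.HasSk k (p.Fiber S) (p.Fiber S)) : LocCoh.HasSk k S S :=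
  (hasSk_iff k S).2 fun q _ => forall_localization_of_fibres (P := SkLocal k)
    (fun A B _ _ _ _ _ _ _ _ _ => skLocal_ascend A B) (fun _ _ _ _ _ e => skLocal_of_ringEquiv e) R S
    (fun p _ => (hasSk_iff k R).1 hR p) (fun p _ Q _ => (hasSk_iff k _).1 (hfib p) Q) q

/-- Cohen–Macaulayness ascends along flat maps with Cohen–Macaulay fibres. -/
theorem cm_ascend (R S : Type u) [CommRing R] [CommRing S] [LocCoh.IsCohenMacaulayRing R] [IsNoetherianRing S]
    [Algebra R S] [Module.Flat R S]
    (hfib : ∀ (p : Ideal R) [p.IsPrime], LocCoh.IsCohenMacaulayRing (p.Fiber S)) : LocCoh.IsCohenMacaulayRing S :=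
  { isCohenMacaulayLocalRing_localization := fun q _ =>
      forall_localization_of_fibres (P := fun R [CommRing R] => LocCoh.IsCohenMacaulayLocalRing R)
        (fun A B _ _ _ _ _ _ _ _ _ h1 h2 => (cm_ascend_descend A B).2 ⟨h1, h2⟩)
        (fun _ _ _ _ _ e h => haveI := h; CMCat.isCohenMacaulayLocalRing_of_ringEquiv e) R S
        (fun p _ => LocCoh.IsCohenMacaulayRing.isCohenMacaulayLocalRing_localization p)
        (fun p _ Q _ => (hfib p).isCohenMacaulayLocalRing_localization Q) q }

/-- Cohen–Macaulayness descends along faithfully flat maps. -/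
theorem cm_descend (R S : Type u) [CommRing R] [CommRing S] [IsNoetherianRing R] [LocCoh.IsCohenMacaulayRing S]
    [Algebra R S] [Module.FaithfullyFlat R S] : LocCoh.IsCohenMacaulayRing R where
  isCohenMacaulayLocalRing_localization p hp := by
    obtain ⟨⟨q, hq⟩, h⟩ := PrimeSpectrum.comap_surjective_of_faithfullyFlat (A := R) (B := S) ⟨p, hp⟩
    have h' : q.comap (algebraMap R S) = p := congrArg PrimeSpectrum.asIdeal h
    subst h'
    haveI : q.LiesOver (q.comap (algebraMap R S)) := ⟨rfl⟩
    letI : Algebra (Localization.AtPrime (q.comap (algebraMap R S))) (Localization.AtPrime q) :=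
      Localization.AtPrime.algebraOfLiesOver _ q
    haveI : IsLocalHom (algebraMap (Localization.AtPrime (q.comap (algebraMap R S))) (Localization.AtPrime q)) :=
      Localization.isLocalHom_localRingHom _ q (algebraMap R S) (Ideal.over_def q _)
    haveI : IsNoetherianRing (Localization.AtPrime (q.comap (algebraMap R S))) :=
      IsLocalization.isNoetherianRing (q.comap (algebraMap R S)).primeCompl _ inferInstance
    haveI := LocCoh.IsCohenMacaulayRing.isCohenMacaulayLocalRing_localization (R := S) q
    exact ((cm_ascend_descend (Localization.AtPrime (q.comap (algebraMap R S))) (Localization.AtPrime q)).1 inferInstance).1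

theorem hasSk_of_ringEquiv {k : ℕ} {A B : Type u} [CommRing A] [CommRing B] [IsNoetherianRing A] (e : A ≃+* B)
    (h : LocCoh.HasSk k A A) : LocCoh.HasSk k B B := by
  rw [hasSk_iff] at h ⊢
  intro p _
  haveI : IsNoetherianRing (Localization.AtPrime (p.comap e)) :=
    IsLocalization.isNoetherianRing (p.comap e).primeCompl _ inferInstance
  refine skLocal_of_ringEquiv ?_ (h (p.comap e))
  exact IsLocalization.ringEquivOfRingEquiv (S := Localization.AtPrime (p.comap e)) (Localization.AtPrime p) e
    (M := (p.comap e).primeCompl) (T := p.primeCompl) (by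
      ext y
      simp only [Submonoid.mem_map, Ideal.mem_primeCompl_iff, Ideal.mem_comap]
      exact ⟨fun ⟨x, hx, hxy⟩ => hxy ▸ hx, fun hy => ⟨e.symm y, by simpa using hy, e.apply_symm_apply y⟩⟩)

/-- Residue fields of a fibre ring are residue fields of the total space. -/
theorem residueField_fiber_surjective (A B : Type u) [CommRing A] [CommRing B] [Algebra A B] (p : Ideal A) [p.IsPrime]
    (P : Ideal (p.Fiber B)) [P.IsPrime] :
    Function.Surjective (Ideal.ResidueField.map
      (P.comap (Algebra.TensorProduct.includeRight : B →ₐ[A] p.Fiber B).toRingHom) P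
      (Algebra.TensorProduct.includeRight : B →ₐ[A] p.Fiber B).toRingHom rfl) := by
  let q := P.comap (Algebra.TensorProduct.includeRight : B →ₐ[A] p.Fiber B).toRingHom
  let φ := Ideal.ResidueField.map q P (Algebra.TensorProduct.includeRight : B →ₐ[A] p.Fiber B).toRingHom rfl
  have key : ∀ x : p.Fiber B, algebraMap _ P.ResidueField x ∈ φ.fieldRange := by
    intro x
    obtain ⟨r, hr, s, e⟩ := Ideal.Fiber.exists_smul_eq_one_tmul _ x
    have h1 : ∀ b : B, algebraMap _ P.ResidueField ((1 : p.ResidueField) ⊗ₜ[A] b) ∈ φ.fieldRange :=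
      fun b => ⟨algebraMap _ _ b, Ideal.ResidueField.map_algebraMap _ _ _ _ _⟩
    have h2 := h1 s
    rw [← e, Algebra.smul_def, map_mul] at h2
    have h3 : algebraMap A (p.Fiber B) r = (1 : p.ResidueField) ⊗ₜ[A] algebraMap A B r :=
      ((Algebra.TensorProduct.includeRight : B →ₐ[A] p.Fiber B).commutes r).symm
    have hu : IsUnit (algebraMap A (p.Fiber B) r) := by
      rw [IsScalarTower.algebraMap_apply A p.ResidueField (p.Fiber B)]
      exact (isUnit_iff_ne_zero.2 fun h0 => hr (Ideal.algebraMap_residueField_eq_zero.mp h0)).map _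
    have hne := (hu.map (algebraMap _ P.ResidueField)).ne_zero
    have := φ.fieldRange.mul_mem (φ.fieldRange.inv_mem (h1 (algebraMap A B r))) h2
    rwa [← h3, ← mul_assoc, inv_mul_cancel₀ hne, one_mul] at this
  intro z
  obtain ⟨a, b, hb, rfl⟩ := IsFractionRing.div_surjective (A := p.Fiber B ⧸ P) z
  obtain ⟨a, rfl⟩ := Ideal.Quotient.mk_surjective a
  obtain ⟨b, rfl⟩ := Ideal.Quotient.mk_surjective b
  exact φ.fieldRange.div_mem (key a) (key b)

/-- The fibres of `κ(p) ⊗_A B → κ(p) ⊗_A B ⊗_B C` are fibres of `B → C`. -/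
theorem exists_fiber_fiber_equiv (A B C : Type u) [CommRing A] [CommRing B] [CommRing C] [Algebra A B] [Algebra B C]
    (p : Ideal A) [p.IsPrime] (P : Ideal (p.Fiber B)) [P.IsPrime] :
    letI : Algebra B (p.Fiber B) := Algebra.TensorProduct.rightAlgebra
    ∃ (q : Ideal B) (_ : q.IsPrime), Nonempty (q.Fiber C ≃+* P.Fiber ((p.Fiber B) ⊗[B] C)) := by
  letI : Algebra B (p.Fiber B) := Algebra.TensorProduct.rightAlgebra
  let q := P.comap (Algebra.TensorProduct.includeRight : B →ₐ[A] p.Fiber B).toRingHom
  let φ := Ideal.ResidueField.map q P (Algebra.TensorProduct.includeRight : B →ₐ[A] p.Fiber B).toRingHom rfl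
  let ψ : q.ResidueField →ₐ[B] P.ResidueField :=
    { φ with
      commutes' := fun b => (Ideal.ResidueField.map_algebraMap _ _ _ _ b).trans
        (IsScalarTower.algebraMap_apply B (p.Fiber B) P.ResidueField b).symm }
  let e : q.ResidueField ≃ₐ[B] P.ResidueField :=
    AlgEquiv.ofBijective ψ ⟨φ.injective, residueField_fiber_surjective A B p P⟩
  exact ⟨q, inferInstance, ⟨(Algebra.TensorProduct.congr e (AlgEquiv.refl : C ≃ₐ[B] C)).toRingEquiv.trans
    (Algebra.TensorProduct.cancelBaseChange B (p.Fiber B) P.ResidueField P.ResidueField C).toRingEquiv.symm⟩⟩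

/-- Fibre rings of a Noetherian algebra are Noetherian. -/
theorem isNoetherianRing_fiber (A B : Type u) [CommRing A] [CommRing B] [IsNoetherianRing B] [Algebra A B]
    (p : Ideal A) [p.IsPrime] : IsNoetherianRing (p.Fiber B) :=
  haveI : IsNoetherianRing (Localization (Algebra.algebraMapSubmonoid B p.primeCompl)) :=
    IsLocalization.isNoetherianRing (Algebra.algebraMapSubmonoid B p.primeCompl) _ inferInstance
  letI : Algebra B (p.Fiber B) := Algebra.TensorProduct.rightAlgebra
  isNoetherianRing_of_ringEquiv _ (Ideal.Fiber.algEquivQuotient p).toRingEquiv.symm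

theorem hasSk_baseChange (n : ℕ) (B R C : Type u) [CommRing B] [CommRing R] [CommRing C] [IsNoetherianRing B]
    [IsNoetherianRing C] [Algebra B R] [Algebra B C] [IsNoetherianRing R] [IsNoetherianRing (R ⊗[B] C)]
    [Module.Flat B C] (hR : LocCoh.HasSk n R R)
    (hBC : ∀ (q : Ideal B) [q.IsPrime], LocCoh.HasSk n (q.Fiber C) (q.Fiber C))
    (he : ∀ (P : Ideal R) [P.IsPrime], ∃ (q : Ideal B) (_ : q.IsPrime), Nonempty (q.Fiber C ≃+* P.Fiber (R ⊗[B] C))) :
    LocCoh.HasSk n (R ⊗[B] C) (R ⊗[B] C) :=
  hasSk_ascend n R (R ⊗[B] C) hR fun P _ => by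
    obtain ⟨q, hq, ⟨e⟩⟩ := he P
    haveI := hq
    haveI := isNoetherianRing_fiber B C q
    exact hasSk_of_ringEquiv e (hBC q)

theorem cm_baseChange (B R C : Type u) [CommRing B] [CommRing R] [CommRing C] [Algebra B R] [Algebra B C]
    [IsNoetherianRing (R ⊗[B] C)] [Module.Flat B C] [LocCoh.IsCohenMacaulayRing R]
    (hBC : ∀ (q : Ideal B) [q.IsPrime], LocCoh.IsCohenMacaulayRing (q.Fiber C))
    (he : ∀ (P : Ideal R) [P.IsPrime], ∃ (q : Ideal B) (_ : q.IsPrime), Nonempty (q.Fiber C ≃+* P.Fiber (R ⊗[B] C))) :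
    LocCoh.IsCohenMacaulayRing (R ⊗[B] C) :=
  cm_ascend R (R ⊗[B] C) fun P _ => by
    obtain ⟨q, hq, ⟨e⟩⟩ := he P
    haveI := hq
    haveI := hBC q
    exact CMCat.isCohenMacaulayRing_of_ringEquiv e

section Comp

variable (A B C : Type u) [CommRing A] [CommRing B] [CommRing C] [Algebra A B] [Algebra B C] [Algebra A C]
  [IsScalarTower A B C] (p : Ideal A) [p.IsPrime]

/-- The fibre of a composite is the base change of the fibre. -/
noncomputable def fiberBaseChange :
    letI : Algebra B (p.Fiber B) := Algebra.TensorProduct.rightAlgebra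
    (p.Fiber B) ⊗[B] C ≃+* p.Fiber C :=
  letI : Algebra B (p.Fiber B) := Algebra.TensorProduct.rightAlgebra
  ((Algebra.TensorProduct.comm B (p.Fiber B) C).trans
    (Algebra.TensorProduct.congr (AlgEquiv.refl : C ≃ₐ[B] C)
      (Algebra.TensorProduct.commRight A B p.ResidueField).symm)).toRingEquiv.trans
    ((Algebra.TensorProduct.cancelBaseChange A B C C p.ResidueField).toRingEquiv.trans
      (Algebra.TensorProduct.comm A C p.ResidueField).toRingEquiv)

variable [IsNoetherianRing B] [IsNoetherianRing C]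

/-- `(S_n)` fibres compose. -/
theorem hasSk_comp (n : ℕ) [Module.Flat B C] (hAB : LocCoh.HasSk n (p.Fiber B) (p.Fiber B))
    (hBC : ∀ (q : Ideal B) [q.IsPrime], LocCoh.HasSk n (q.Fiber C) (q.Fiber C)) :
    LocCoh.HasSk n (p.Fiber C) (p.Fiber C) := by
  letI : Algebra B (p.Fiber B) := Algebra.TensorProduct.rightAlgebra
  haveI := isNoetherianRing_fiber A B p
  haveI := isNoetherianRing_fiber A C p
  haveI : IsNoetherianRing ((p.Fiber B) ⊗[B] C) := isNoetherianRing_of_ringEquiv _ (fiberBaseChange A B C p).symm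
  exact hasSk_of_ringEquiv (A := (p.Fiber B) ⊗[B] C) (fiberBaseChange A B C p)
    (hasSk_baseChange n B (p.Fiber B) C hAB hBC fun P _ => exists_fiber_fiber_equiv A B C p P)

/-- Cohen–Macaulay fibres compose. -/
theorem cm_comp [Module.Flat B C] (hAB : LocCoh.IsCohenMacaulayRing (p.Fiber B))
    (hBC : ∀ (q : Ideal B) [q.IsPrime], LocCoh.IsCohenMacaulayRing (q.Fiber C)) :
    LocCoh.IsCohenMacaulayRing (p.Fiber C) := by
  letI : Algebra B (p.Fiber B) := Algebra.TensorProduct.rightAlgebra
  haveI := isNoetherianRing_fiber A C p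
  haveI : IsNoetherianRing ((p.Fiber B) ⊗[B] C) := isNoetherianRing_of_ringEquiv _ (fiberBaseChange A B C p).symm
  haveI : LocCoh.IsCohenMacaulayRing ((p.Fiber B) ⊗[B] C) :=
    cm_baseChange B (p.Fiber B) C hBC fun P _ => exists_fiber_fiber_equiv A B C p P
  exact CMCat.isCohenMacaulayRing_of_ringEquiv (A := (p.Fiber B) ⊗[B] C) (fiberBaseChange A B C p)

/-- `(S_n)` fibres descend. -/
theorem hasSk_of_comp (n : ℕ) [Module.FaithfullyFlat B C] (hAC : LocCoh.HasSk n (p.Fiber C) (p.Fiber C)) :
    LocCoh.HasSk n (p.Fiber B) (p.Fiber B) := by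
  letI : Algebra B (p.Fiber B) := Algebra.TensorProduct.rightAlgebra
  haveI := isNoetherianRing_fiber A C p
  haveI : IsNoetherianRing ((p.Fiber B) ⊗[B] C) := isNoetherianRing_of_ringEquiv _ (fiberBaseChange A B C p).symm
  exact (Groth.Agent.S9437.result n (p.Fiber B) ((p.Fiber B) ⊗[B] C)
    (hasSk_of_ringEquiv (fiberBaseChange A B C p).symm hAC)).2

/-- Cohen–Macaulay fibres descend. -/
theorem cm_of_comp [Module.FaithfullyFlat B C] (hAC : LocCoh.IsCohenMacaulayRing (p.Fiber C)) :
    LocCoh.IsCohenMacaulayRing (p.Fiber B) := by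
  letI : Algebra B (p.Fiber B) := Algebra.TensorProduct.rightAlgebra
  haveI := isNoetherianRing_fiber A B p
  haveI := isNoetherianRing_fiber A C p
  haveI : IsNoetherianRing ((p.Fiber B) ⊗[B] C) := isNoetherianRing_of_ringEquiv _ (fiberBaseChange A B C p).symm
  haveI : LocCoh.IsCohenMacaulayRing ((p.Fiber B) ⊗[B] C) :=
    CMCat.isCohenMacaulayRing_of_ringEquiv (fiberBaseChange A B C p).symm
  exact cm_descend (p.Fiber B) ((p.Fiber B) ⊗[B] C)

end Comp

/-- The fibres of a base change along a surjection are fibres of the original map. -/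
theorem exists_fiber_quot_equiv (A R C : Type u) [CommRing A] [CommRing R] [CommRing C] [Algebra A R] [Algebra A C]
    (hR : Function.Surjective (algebraMap A R)) (q : Ideal R) [q.IsPrime] :
    ∃ (p : Ideal A) (_ : p.IsPrime), Nonempty (p.Fiber C ≃+* q.Fiber (R ⊗[A] C)) := by
  let p := q.comap (algebraMap A R)
  let φ := Ideal.ResidueField.map p q (algebraMap A R) rfl
  have hφ : Function.Surjective φ := by
    intro z
    obtain ⟨a, b, hb, rfl⟩ := IsFractionRing.div_surjective (A := R ⧸ q) z
    obtain ⟨a, rfl⟩ := Ideal.Quotient.mk_surjective a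
    obtain ⟨b, rfl⟩ := Ideal.Quotient.mk_surjective b
    have key : ∀ x : R, algebraMap R q.ResidueField x ∈ φ.fieldRange := fun x => by
      obtain ⟨y, rfl⟩ := hR x
      exact ⟨algebraMap A _ y, Ideal.ResidueField.map_algebraMap _ _ _ _ _⟩
    exact φ.fieldRange.div_mem (key a) (key b)
  let ψ : p.ResidueField →ₐ[A] q.ResidueField :=
    { φ with
      commutes' := fun a => (Ideal.ResidueField.map_algebraMap _ _ _ _ a).trans
        (IsScalarTower.algebraMap_apply A R q.ResidueField a).symm }
  let e : p.ResidueField ≃ₐ[A] q.ResidueField := AlgEquiv.ofBijective ψ ⟨φ.injective, hφ⟩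
  exact ⟨p, inferInstance, ⟨(Algebra.TensorProduct.congr e (AlgEquiv.refl : C ≃ₐ[A] C)).toRingEquiv.trans
    (Algebra.TensorProduct.cancelBaseChange A R q.ResidueField q.ResidueField C).toRingEquiv.symm⟩⟩

/-- A regular ring is Cohen–Macaulay. -/
theorem cm_of_regular (R : Type u) [CommRing R] [IsRegularRing R] [IsNoetherianRing R] :
    LocCoh.IsCohenMacaulayRing R where
  isCohenMacaulayLocalRing_localization p _ := RatliffLib.cm_of_regularLocal (Localization.AtPrime p)

/-- The fibres of a regular homomorphism are Cohen–Macaulay. -/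
theorem cm_fibres_of_isRegularHom {A B : Type u} [CommRing A] [CommRing B] [Algebra A B]
    (h : CAlg.IsRegularHom A B) (p : Ideal A) [p.IsPrime] : LocCoh.IsCohenMacaulayRing (p.Fiber B) := by
  obtain ⟨hN, hreg⟩ := h.2 p
  haveI := hN
  haveI : IsNoetherianRing (p.ResidueField ⊗[p.ResidueField] p.Fiber B) := isNoetherianRing_of_ringEquiv _
    (Algebra.TensorProduct.lid p.ResidueField (p.Fiber B)).toRingEquiv.symm
  haveI := hreg p.ResidueField (Module.Finite.self _)
  haveI := cm_of_regular (p.ResidueField ⊗[p.ResidueField] p.Fiber B)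
  exact CMCat.isCohenMacaulayRing_of_ringEquiv (A := p.ResidueField ⊗[p.ResidueField] p.Fiber B)
    (Algebra.TensorProduct.lid p.ResidueField (p.Fiber B)).toRingEquiv

end Groth.Agent.FlatDepth
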